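import Mathlib
import Groth.Agent.LeadChow.Chart

/-!
# Projective space is smooth
-/

set_option autoImplicit false
set_option linter.style.haveILetI false

universe u

open CategoryTheory CategoryTheory.Limits AlgebraicGeometry CohB1

namespace Groth.Agent.H26Smooth

open Groth.Agent.H11Proj in
/-- The standard affine cover. -/
noncomputable def stdCover (n : ℕ) (R : Type u) [CommRing R] :=
  Proj.affineOpenCoverOfIrrelevantLESpan (𝒜 := CohB1.polyGrading n R)
    (ι := Fin (n + 1)) (m := fun _ => 1) (fun i => MvPolynomial.X i) (fun i => ProjSpace.X_mem n R i)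
    (fun _ => one_pos) (ProjSpace.irrelevant_le_span n R)

open Groth.Agent.H11Proj in
instance smooth_toSpec (n : ℕ) (R : Type u) [CommRing R] : Smooth (CohB1.ProjSpace.toSpec n R) := by
  refine IsZariskiLocalAtSource.of_openCover (P := @Smooth) (stdCover n R).openCover fun i => ?_
  have h : Smooth (Spec.map (CommRingCat.ofHom ((ProjSpace.chartMap n R i).comp MvPolynomial.C))) := by
    refine (HasRingHomProperty.Spec_iff (P := @Smooth)).2 ?_
    show RingHom.Smooth ((ProjSpace.chartMap n R i).comp MvPolynomial.C)
    refine RingHom.Smooth.comp ?_ ?_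
    · rw [← MvPolynomial.algebraMap_eq, RingHom.smooth_algebraMap]
      exact { }
    · exact RingHom.Smooth.of_bijective (ProjSpace.chartMap_bijective n R i)
  rw [← ProjSpace.awayι_toSpec] at h
  exact h

instance smooth_toBase (n : ℕ) (S : Scheme.{u}) : Smooth (CohB1.ProjSpaceOver.toBase n S) := by
  unfold CohB1.ProjSpaceOver.toBase
  exact MorphismProperty.of_isPullback (IsPullback.of_hasPullback _ _) (smooth_toSpec n (ULift.{u} ℤ))

end Groth.Agent.H26Smooth
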